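import Mathlib

/-!
# Free modules with regular variables

`GoodMod A N s`: `N` is free over `A`, every `x ∈ s` is a non-zero-divisor on `N`, and `N / xN` is
good for `s.erase x`.  This is preserved by `N ↦ N_f / N`.
-/

set_option linter.style.haveILetI false
set_option linter.unusedSectionVars false

universe u

namespace Groth.Agent.H1KoszFree

variable (A : Type u) [CommRing A] {S : Type u} [CommRing S] [Algebra A S]

/-- Free over `A`, hereditarily regular for the elements of `s`. -/
def GoodMod : ℕ → ∀ (N : Type u) [AddCommGroup N] [Module S N] [Module A N] [IsScalarTower A S N],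
    Set S → Prop
  | 0, N, _, _, _, _, _ => Module.Free A N
  | n + 1, N, _, _, _, _, s => Module.Free A N ∧ ∀ x ∈ s, Function.Injective (fun y : N => x • y) ∧
      GoodMod n (N ⧸ LinearMap.range (DistribSMul.toLinearMap S N x)) (s \ {x})

variable {A}

lemma GoodMod.free : ∀ {n : ℕ} {N : Type u} [AddCommGroup N] [Module S N] [Module A N]
    [IsScalarTower A S N] {s : Set S}, GoodMod A n N s → Module.Free A N
  | 0, _, _, _, _, _, _, h => h
  | _ + 1, _, _, _, _, _, _, h => h.1

lemma GoodMod.of_equiv : ∀ {n : ℕ} {N N' : Type u} [AddCommGroup N] [Module S N] [Module A N]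
    [IsScalarTower A S N] [AddCommGroup N'] [Module S N'] [Module A N'] [IsScalarTower A S N']
    {s : Set S} (_ : N ≃ₗ[S] N'), GoodMod A n N s → GoodMod A n N' s
  | 0, _, _, _, _, _, _, _, _, _, _, _, e, h => by
    haveI : Module.Free A _ := h
    exact Module.Free.of_equiv (e.restrictScalars A)
  | n + 1, N, N', _, _, _, _, _, _, _, _, s, e, h => by
    haveI : Module.Free A N := h.1
    refine ⟨Module.Free.of_equiv (e.restrictScalars A), fun x hx => ⟨fun y z hyz => ?_, ?_⟩⟩
    · refine e.symm.injective ((h.2 x hx).1 ?_)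
      show x • e.symm y = x • e.symm z
      rw [← map_smul, ← map_smul]
      exact congrArg e.symm hyz
    · refine GoodMod.of_equiv (Submodule.Quotient.equiv _ _ e ?_) (h.2 x hx).2
      rw [← LinearMap.range_comp]
      refine le_antisymm ?_ ?_
      · rintro _ ⟨y, rfl⟩
        exact ⟨e y, (e.map_smul x y).symm⟩
      · rintro _ ⟨y, rfl⟩
        exact ⟨e.symm y, by simp⟩

lemma GoodMod.of_subsingleton [Subsingleton A] : ∀ {n : ℕ} {N : Type u} [AddCommGroup N]
    [Module S N] [Module A N] [IsScalarTower A S N] {s : Set S}, GoodMod A n N s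
  | 0, N, _, _, _, _, _ => by
    haveI := Module.subsingleton A N
    exact Module.Free.of_subsingleton A N
  | n + 1, N, _, _, _, _, _ => by
    haveI := Module.subsingleton A N
    exact ⟨Module.Free.of_subsingleton A N, fun x _ =>
      ⟨fun a b _ => Subsingleton.elim a b, GoodMod.of_subsingleton⟩⟩

lemma GoodMod.mono : ∀ {n : ℕ} {N : Type u} [AddCommGroup N] [Module S N] [Module A N]
    [IsScalarTower A S N] {s t : Set S}, t ⊆ s → GoodMod A n N s → GoodMod A n N t
  | 0, _, _, _, _, _, _, _, _, h => h
  | _ + 1, _, _, _, _, _, _, _, hts, h =>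
    ⟨h.1, fun x hx => ⟨(h.2 x (hts hx)).1,
      GoodMod.mono (Set.sdiff_subset_sdiff_left hts) (h.2 x (hts hx)).2⟩⟩

variable {N L C : Type u} [AddCommGroup N] [Module S N] [AddCommGroup L] [Module S L]
  [AddCommGroup C] [Module S C]

/-- `C` is `N_f / N`, for `f` regular on `N`. -/
structure IsTail (f : S) (loc : N →ₗ[S] L) (π : L →ₗ[S] C) : Prop where
  isLoc : IsLocalizedModule (Submonoid.powers f) loc
  reg : Function.Injective (fun y : N => f • y)
  surj : Function.Surjective π
  exact : Function.Exact loc π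

lemma IsTail.loc_injective {f : S} {loc : N →ₗ[S] L} {π : L →ₗ[S] C} (h : IsTail f loc π) :
    Function.Injective loc := by
  haveI := h.isLoc
  intro x y hxy
  obtain ⟨⟨_, k, rfl⟩, hc⟩ := (IsLocalizedModule.eq_iff_exists (Submonoid.powers f) loc).1 hxy
  change f ^ k • x = f ^ k • y at hc
  induction k with
  | zero => simpa using hc
  | succ k ih =>
    rw [pow_succ', mul_smul, mul_smul] at hc
    exact ih (h.reg hc)

/-- Every element is `m / f ^ k`. -/
lemma IsTail.exists_div {f : S} {loc : N →ₗ[S] L} {π : L →ₗ[S] C} (h : IsTail f loc π) (z : L) :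
    ∃ (k : ℕ) (m : N), f ^ k • z = loc m := by
  haveI := h.isLoc
  obtain ⟨⟨m, ⟨_, k, rfl⟩⟩, hm⟩ := IsLocalizedModule.surj (Submonoid.powers f) loc z
  exact ⟨k, m, hm⟩

lemma IsTail.exists_inv {f : S} {loc : N →ₗ[S] L} {π : L →ₗ[S] C} (h : IsTail f loc π) :
    ∃ u : L →ₗ[S] L, ∀ z, f • u z = z := by
  haveI := h.isLoc
  have hu := IsLocalizedModule.map_units loc (⟨f, Submonoid.mem_powers f⟩ : Submonoid.powers f)
  obtain ⟨u, hu⟩ := hu
  exact ⟨((u⁻¹ : (Module.End S L)ˣ) : Module.End S L), fun z => by
    have := LinearMap.congr_fun (Units.mul_inv u) z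
    rwa [hu, Module.End.mul_apply, Module.algebraMap_end_apply] at this⟩

variable [Module A N] [IsScalarTower A S N] [Module A L] [IsScalarTower A S L] [Module A C]
  [IsScalarTower A S C]

lemma IsTail.free {f : S} {loc : N →ₗ[S] L} {π : L →ₗ[S] C} (h : IsTail f loc π)
    (hq : Module.Free A (N ⧸ LinearMap.range (DistribSMul.toLinearMap S N f))) :
    Module.Free A C := by
  let Q := N ⧸ LinearMap.range (DistribSMul.toLinearMap S N f)
  let p : N →ₗ[A] Q := (LinearMap.range (DistribSMul.toLinearMap S N f)).mkQ.restrictScalars A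
  haveI : Module.Projective A Q := Module.Projective.of_free
  have hp : Function.Surjective p := Submodule.mkQ_surjective (LinearMap.range (DistribSMul.toLinearMap S N f))
  obtain ⟨σ, hσ⟩ := Module.projective_lifting_property p (LinearMap.id (R := A) (M := Q)) hp
  obtain ⟨u, hu⟩ := h.exists_inv
  let term : ℕ → Q →ₗ[A] C := fun k =>
    ((π.comp ((u ^ (k + 1) : Module.End S L).comp loc)).restrictScalars A).comp σ
  obtain ⟨Φ, hΦ₀⟩ : ∃ Φ : (ℕ →₀ Q) →ₗ[A] C, ∀ c, Φ c = c.sum fun k x => term k x :=
    ⟨Finsupp.lsum A term, fun c => rfl⟩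
  have hfu : ∀ (k : ℕ) (z : L), f ^ k • (u ^ k : Module.End S L) z = z := by
    intro k
    induction k with
    | zero => intro z; simp
    | succ k ih =>
      intro z
      rw [pow_succ' u, Module.End.mul_apply, pow_succ, mul_smul, hu, ih]
  have hπloc : ∀ m : N, π (loc m) = 0 := fun m => h.exact.apply_apply_eq_zero m
  have hsur : ∀ (k : ℕ) (m : N), π ((u ^ k : Module.End S L) (loc m)) ∈ LinearMap.range Φ := by
    intro k
    induction k with
    | zero => intro m; rw [pow_zero, Module.End.one_apply, hπloc]; exact zero_mem _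
    | succ k ih =>
      intro m
      have hmem : m - σ (p m) ∈ LinearMap.range (DistribSMul.toLinearMap S N f) := by
        rw [← Submodule.Quotient.mk_eq_zero, Submodule.Quotient.mk_sub]
        show p m - p (σ (p m)) = 0
        rw [show p (σ (p m)) = p m from LinearMap.congr_fun hσ (p m), sub_self]
      obtain ⟨m', hm'⟩ := hmem
      have hm'' : m = σ (p m) + f • m' := by
        rw [show f • m' = m - σ (p m) from hm']; abel
      rw [hm'', map_add, map_add, map_add]
      refine add_mem ⟨Finsupp.single k (p m), by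
        rw [hΦ₀]; exact (Finsupp.sum_single_index (h := fun k x => term k x) (map_zero (term k))).trans rfl⟩ ?_
      have : (u ^ (k + 1) : Module.End S L) (loc (f • m')) = (u ^ k : Module.End S L) (loc m') := by
        rw [map_smul, map_smul, pow_succ', Module.End.mul_apply, hu]
      rw [this]
      exact ih m'
  have key : ∀ (n : ℕ) (c : ℕ →₀ Q), (∀ k, n ≤ k → c k = 0) → Φ c = 0 → c = 0 := by
    intro n
    induction n with
    | zero => intro c hc _; ext k; exact hc k (Nat.zero_le k)
    | succ n ih =>
      intro c hc hΦ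
      suffices hn : c n = 0 by
        refine ih c (fun k hk => ?_) hΦ
        rcases Nat.eq_or_lt_of_le hk with rfl | hlt
        · exact hn
        · exact hc k hlt
      obtain ⟨z, hz⟩ : ∃ z : L, π z = Φ c ∧
          ∃ m : N, f ^ (n + 1) • z = loc m ∧ p m = c n := by
        refine ⟨∑ k ∈ Finset.range (n + 1), (u ^ (k + 1) : Module.End S L) (loc (σ (c k))), ?_,
          ∑ k ∈ Finset.range (n + 1), f ^ (n - k) • σ (c k), ?_, ?_⟩
        · rw [map_sum]
          rw [hΦ₀, Finsupp.sum_of_support_subset c (s := Finset.range (n + 1))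
            (fun k hk => by
              rw [Finset.mem_range]
              by_contra hlt
              exact Finsupp.mem_support_iff.1 hk (hc k (by omega))) _ (fun k _ => map_zero _)]
          rfl
        · rw [Finset.smul_sum, map_sum]
          refine Finset.sum_congr rfl fun k hk => ?_
          rw [Finset.mem_range] at hk
          rw [show n + 1 = (n - k) + (k + 1) by omega, pow_add, mul_smul, hfu, map_smul]
        · rw [map_sum, Finset.sum_range_succ, Nat.sub_self, pow_zero, one_smul,
            show p (σ (c n)) = c n from LinearMap.congr_fun hσ (c n), Finset.sum_eq_zero, zero_add]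
          intro k hk
          rw [Finset.mem_range] at hk
          refine (Submodule.Quotient.mk_eq_zero _).2 ⟨f ^ (n - k - 1) • σ (c k), ?_⟩
          show f • (f ^ (n - k - 1) • σ (c k)) = _
          rw [← mul_smul, ← pow_succ', show n - k - 1 + 1 = n - k by omega]
      obtain ⟨m, hm, hpm⟩ := hz.2
      obtain ⟨y, hy⟩ := (h.exact z).1 (hz.1.trans hΦ)
      have hmy : m = f ^ (n + 1) • y := h.loc_injective (by rw [← hm, ← hy, map_smul])
      rw [← hpm, hmy]
      refine (Submodule.Quotient.mk_eq_zero _).2 ⟨f ^ n • y, ?_⟩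
      show f • (f ^ n • y) = _
      rw [← mul_smul, ← pow_succ']
  refine Module.Free.of_equiv (LinearEquiv.ofBijective Φ ⟨?_, ?_⟩)
  · rw [injective_iff_map_eq_zero]
    intro c hc
    refine key (c.support.sup id + 1) c (fun k hk => ?_) hc
    by_contra hne
    have : k ≤ c.support.sup id := Finset.le_sup (f := id) (Finsupp.mem_support_iff.2 hne)
    omega
  · intro y
    obtain ⟨z, rfl⟩ := h.surj y
    obtain ⟨k, m, hm⟩ := h.exists_div z
    have : z = (u ^ k : Module.End S L) (loc m) := by
      rw [← hm, map_smul, hfu]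
    rw [this]
    exact hsur k m

omit [Module A N] [IsScalarTower A S N] [Module A L] [IsScalarTower A S L] [Module A C]
  [IsScalarTower A S C] in
lemma IsTail.smul_injective {f g : S} {loc : N →ₗ[S] L} {π : L →ₗ[S] C} (h : IsTail f loc π)
    (hfg : Function.Injective
      (fun y : N ⧸ LinearMap.range (DistribSMul.toLinearMap S N f) => g • y)) :
    Function.Injective (fun y : C => g • y) := by
  have hdiv : ∀ (k : ℕ) (x y : N), g • x = f ^ k • y → ∃ w, x = f ^ k • w := by
    intro k
    induction k with
    | zero => intro x y _; exact ⟨x, by rw [pow_zero, one_smul]⟩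
    | succ k ih =>
      intro x y hxy
      have hx : (Submodule.Quotient.mk x : N ⧸ LinearMap.range (DistribSMul.toLinearMap S N f))
          = 0 := by
        refine hfg ?_
        show g • Submodule.Quotient.mk x = g • 0
        rw [smul_zero, ← Submodule.Quotient.mk_smul, hxy, Submodule.Quotient.mk_eq_zero]
        exact ⟨f ^ k • y, by show f • (f ^ k • y) = _; rw [← mul_smul, ← pow_succ']⟩
      obtain ⟨x', rfl⟩ := (Submodule.Quotient.mk_eq_zero _).1 hx
      change g • f • x' = _ at hxy
      rw [smul_comm, pow_succ', mul_smul] at hxy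
      obtain ⟨w, rfl⟩ := ih x' y (h.reg hxy)
      exact ⟨w, by show f • (f ^ k • w) = _; rw [← mul_smul, ← pow_succ']⟩
  intro a b hab
  rw [← sub_eq_zero]
  have hab' : g • (a - b) = 0 := by rw [smul_sub]; exact sub_eq_zero.2 hab
  obtain ⟨z, hz⟩ := h.surj (a - b)
  obtain ⟨k, m, hm⟩ := h.exists_div z
  rw [← hz, ← map_smul] at hab'
  obtain ⟨y, hy⟩ := (h.exact _).1 hab'
  have : g • m = f ^ k • y := h.loc_injective (by
    rw [map_smul, map_smul, hy, ← hm, smul_comm])
  obtain ⟨w, rfl⟩ := hdiv k m y this
  obtain ⟨u, hu⟩ := h.exists_inv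
  have huinj : Function.Injective (fun z : L => f ^ k • z) := by
    haveI := h.isLoc
    exact ((Module.End.isUnit_iff _).1 (IsLocalizedModule.map_units loc
      (⟨f ^ k, k, rfl⟩ : Submonoid.powers f))).1
  rw [← hz]
  exact (h.exact z).2 ⟨w, huinj ((map_smul loc _ w).symm.trans hm.symm)⟩

omit [Module A N] [IsScalarTower A S N] [Module A L] [IsScalarTower A S L] [Module A C]
  [IsScalarTower A S C] in
/-- The tail of `N / gN` is `C / gC`. -/
lemma IsTail.quot_equiv {f g : S} {loc : N →ₗ[S] L} {π : L →ₗ[S] C} (h : IsTail f loc π)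
    {N' L' C' : Type u} [AddCommGroup N'] [Module S N'] [AddCommGroup L'] [Module S L']
    [AddCommGroup C'] [Module S C'] {loc' : N' →ₗ[S] L'} {π' : L' →ₗ[S] C'}
    (h' : IsTail f loc' π') (q : N →ₗ[S] N') (hq : Function.Surjective q)
    (hker : LinearMap.ker q = LinearMap.range (DistribSMul.toLinearMap S N g)) :
    Nonempty ((C ⧸ LinearMap.range (DistribSMul.toLinearMap S C g)) ≃ₗ[S] C') := by
  haveI := h.isLoc
  haveI := h'.isLoc
  let Q : L →ₗ[S] L' := IsLocalizedModule.lift (Submonoid.powers f) loc (loc'.comp q)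
    (fun x => IsLocalizedModule.map_units loc' x)
  have hQ : ∀ m, Q (loc m) = loc' (q m) := fun m =>
    IsLocalizedModule.lift_apply (Submonoid.powers f) loc (loc'.comp q)
      (fun x => IsLocalizedModule.map_units loc' x) m
  let e0 : (L ⧸ LinearMap.range loc) ≃ₗ[S] C := LinearEquiv.ofBijective
    ((LinearMap.range loc).liftQ π (fun z hz => by
      obtain ⟨m, rfl⟩ := hz; exact h.exact.apply_apply_eq_zero m))
    ⟨by
      rw [← LinearMap.ker_eq_bot, Submodule.ker_liftQ_eq_bot]
      exact fun z hz => (h.exact z).1 hz,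
     fun y => by
      obtain ⟨z, rfl⟩ := h.surj y
      exact ⟨Submodule.Quotient.mk z, rfl⟩⟩
  have hle : LinearMap.range loc ≤ LinearMap.ker (π'.comp Q) := by
    rintro _ ⟨m, rfl⟩
    show π' (Q (loc m)) = 0
    rw [hQ]
    exact h'.exact.apply_apply_eq_zero _
  let P : C →ₗ[S] C' := (Submodule.liftQ (LinearMap.range loc) (π'.comp Q) hle).comp e0.symm.toLinearMap
  have hP : ∀ z, P (π z) = π' (Q z) := fun z => by
    show Submodule.liftQ _ (π'.comp Q) hle (e0.symm (π z)) = _
    rw [show e0.symm (π z) = Submodule.Quotient.mk z from e0.symm_apply_eq.2 rfl]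
    rfl
  have huinj' : ∀ k : ℕ, Function.Bijective (fun z : L' => f ^ k • z) := fun k =>
    (Module.End.isUnit_iff _).1 (IsLocalizedModule.map_units loc'
      (⟨f ^ k, k, rfl⟩ : Submonoid.powers f))
  have huinj : ∀ k : ℕ, Function.Bijective (fun z : L => f ^ k • z) := fun k =>
    (Module.End.isUnit_iff _).1 (IsLocalizedModule.map_units loc
      (⟨f ^ k, k, rfl⟩ : Submonoid.powers f))
  have hsurj : Function.Surjective P := by
    intro y
    obtain ⟨w, rfl⟩ := h'.surj y
    obtain ⟨k, n, hn⟩ := h'.exists_div w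
    obtain ⟨m, rfl⟩ := hq n
    obtain ⟨z, hz⟩ := (huinj k).2 (loc m)
    refine ⟨π z, ?_⟩
    rw [hP]
    refine congrArg π' ((huinj' k).1 ?_)
    show f ^ k • Q z = f ^ k • w
    rw [← map_smul, show f ^ k • z = loc m from hz, hQ, hn]
  have hker' : LinearMap.ker P = LinearMap.range (DistribSMul.toLinearMap S C g) := by
    refine le_antisymm (fun y hy => ?_) ?_
    · obtain ⟨z, rfl⟩ := h.surj y
      rw [LinearMap.mem_ker, hP] at hy
      obtain ⟨n', hn'⟩ := (h'.exact _).1 hy
      obtain ⟨n, rfl⟩ := hq n'
      obtain ⟨k, m, hm⟩ := h.exists_div z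
      have e : loc' (q m) = loc' (q (f ^ k • n)) := by
        rw [← hQ, ← hm, map_smul, ← hn', map_smul q, map_smul]
      have : m - f ^ k • n ∈ LinearMap.ker q := by
        rw [LinearMap.mem_ker, map_sub, h'.loc_injective e, sub_self]
      rw [hker] at this
      obtain ⟨t, ht⟩ := this
      obtain ⟨w, hw⟩ := (huinj k).2 (loc t)
      refine ⟨π w, ?_⟩
      show g • π w = π z
      rw [← map_smul]
      have : z = g • w + loc n := (huinj k).1 (by
        show f ^ k • z = f ^ k • (g • w + loc n)
        rw [smul_add, smul_comm, show f ^ k • w = loc t from hw, hm, ← map_smul loc,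
          ← map_smul loc, ← map_add, show g • t = m - f ^ k • n from ht, sub_add_cancel])
      rw [this, map_add, h.exact.apply_apply_eq_zero, add_zero]
    · rintro _ ⟨y, rfl⟩
      obtain ⟨z, rfl⟩ := h.surj y
      obtain ⟨k, m, hm⟩ := h.exists_div z
      show P (g • π z) = 0
      rw [← map_smul π, hP]
      have : f ^ k • Q (g • z) = 0 := by
        rw [← map_smul, smul_comm, hm, ← map_smul loc, hQ,
          show q (g • m) = 0 from LinearMap.mem_ker.1 (hker.ge ⟨m, rfl⟩), map_zero]
      rw [(huinj' k).1 (this.trans (smul_zero _).symm), map_zero]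
  exact ⟨(Submodule.quotEquivOfEq _ _ hker'.symm).trans (P.quotKerEquivOfSurjective hsurj)⟩

/-- Any regular element has a tail. -/
lemma exists_tail {f : S} {M : Type u} [AddCommGroup M] [Module S M]
    (hf : Function.Injective (fun y : M => f • y)) :
    IsTail f (LocalizedModule.mkLinearMap (Submonoid.powers f) M)
      (LinearMap.range (LocalizedModule.mkLinearMap (Submonoid.powers f) M)).mkQ where
  isLoc := localizedModuleIsLocalizedModule _
  reg := hf
  surj := Submodule.mkQ_surjective _
  exact := LinearMap.exact_map_mkQ_range _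

/-- `N ↦ N_f / N` preserves goodness. -/
lemma GoodMod.tail : ∀ {n : ℕ} {f : S} {s : Set S} {N L C : Type u} [AddCommGroup N] [Module S N]
    [AddCommGroup L] [Module S L] [AddCommGroup C] [Module S C] [Module A N] [IsScalarTower A S N]
    [Module A C] [IsScalarTower A S C] {loc : N →ₗ[S] L} {π : L →ₗ[S] C},
    IsTail f loc π → f ∉ s → GoodMod A (n + 1) N (insert f s) → GoodMod A n C s
  | 0, f, s, N, L, C, _, _, _, _, _, _, _, _, _, _, loc, π, h, _, hN => by
    letI : Module A L := Module.compHom L (algebraMap A S)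
    haveI : IsScalarTower A S L := IsScalarTower.of_algebraMap_smul fun _ _ => rfl
    exact h.free (hN.2 f (Set.mem_insert _ _)).2
  | n + 1, f, s, N, L, C, _, _, _, _, _, _, _, _, _, _, loc, π, h, hfs, hN => by
    letI : Module A L := Module.compHom L (algebraMap A S)
    haveI : IsScalarTower A S L := IsScalarTower.of_algebraMap_smul fun _ _ => rfl
    refine ⟨h.free (GoodMod.free (hN.2 f (Set.mem_insert _ _)).2), fun x hx => ?_⟩
    have hxf : x ≠ f := fun e => hfs (e ▸ hx)
    refine ⟨h.smul_injective ((hN.2 f (Set.mem_insert _ _)).2.2 x ⟨Set.mem_insert_of_mem _ hx,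
      hxf⟩).1, ?_⟩
    obtain ⟨-, hNx⟩ := hN.2 x (Set.mem_insert_of_mem _ hx)
    have hmem : f ∈ insert f s \ {x} := ⟨Set.mem_insert _ _, fun e => hxf e.symm⟩
    have htail := exists_tail (hNx.2 f hmem).1
    obtain ⟨e⟩ := h.quot_equiv htail (LinearMap.range (DistribSMul.toLinearMap S N x)).mkQ
      (Submodule.mkQ_surjective _) (Submodule.ker_mkQ _)
    refine GoodMod.of_equiv e.symm (GoodMod.tail htail (fun hf => hfs hf.1) ?_)
    rwa [show insert f (s \ {x}) = insert f s \ {x} by
      rw [Set.insert_sdiff_of_notMem _ (show f ∉ ({x} : Set S) from fun e => hxf e.symm)]]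

open MvPolynomial in
/-- A polynomial ring modulo some of its variables is good for the other variables. -/
lemma goodMod_quot {σ : Type} [DecidableEq σ] : ∀ (n : ℕ) (u v : Set σ), Disjoint u v →
    GoodMod A n (MvPolynomial σ A ⧸ (Ideal.span (X '' u) : Ideal (MvPolynomial σ A))) (X '' v : Set (MvPolynomial σ A)) := by
  have hmem : ∀ (u : Set σ) (p : MvPolynomial σ A),
      p ∈ Ideal.span (X '' u : Set (MvPolynomial σ A)) ↔
        ∀ m ∈ p.support, ∃ i ∈ u, (m : σ →₀ ℕ) i ≠ 0 := fun u p => mem_ideal_span_X_image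
  have hfree : ∀ u : Set σ, Module.Free A
      (MvPolynomial σ A ⧸ (Ideal.span (X '' u) : Ideal (MvPolynomial σ A))) := by
    intro u
    classical
    let T := {m : σ →₀ ℕ // ∀ i ∈ u, m i = 0}
    let φ : MvPolynomial σ A →ₗ[A] (T →₀ A) :=
      (Finsupp.lsubtypeDomain {m : σ →₀ ℕ | ∀ i ∈ u, m i = 0}).comp
        (AddMonoidAlgebra.coeffLinearEquiv A).toLinearMap
    have hφ : ∀ (p : MvPolynomial σ A) (t : T), φ p t = coeff t.1 p := fun p t => rfl
    have hsurj : Function.Surjective φ := by
      intro c
      refine ⟨c.sum fun t a => monomial t.1 a, ?_⟩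
      ext t
      rw [hφ, Finsupp.sum, coeff_sum, Finset.sum_eq_single t]
      · rw [coeff_monomial, if_pos rfl]
      · intro b _ hb
        rw [coeff_monomial, if_neg fun e => hb (Subtype.ext e)]
      · intro ht
        rw [coeff_monomial, if_pos rfl]
        exact Finsupp.notMem_support_iff.1 ht
    have hker : (Ideal.span (X '' u : Set (MvPolynomial σ A))).restrictScalars A =
        LinearMap.ker φ := by
      ext p
      rw [Submodule.restrictScalars_mem, hmem, LinearMap.mem_ker]
      constructor
      · intro hp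
        ext t
        rw [hφ, Finsupp.zero_apply]
        by_contra hne
        obtain ⟨i, hi, hi'⟩ := hp t.1 (mem_support_iff.2 hne)
        exact hi' (t.2 i hi)
      · intro hp m hm
        by_contra hne
        push Not at hne
        have := DFunLike.congr_fun hp (⟨m, hne⟩ : T)
        rw [hφ, Finsupp.zero_apply] at this
        exact mem_support_iff.1 hm this
    exact Module.Free.of_equiv ((Submodule.Quotient.restrictScalarsEquiv A _).symm.trans
      ((Submodule.quotEquivOfEq _ _ hker).trans (φ.quotKerEquivOfSurjective hsurj))).symm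
  intro n
  induction n with
  | zero => exact fun u v _ => hfree u
  | succ n ih =>
    intro u v huv
    refine ⟨hfree u, ?_⟩
    rintro _ ⟨j, hj, rfl⟩
    have hju : j ∉ u := fun h => Set.disjoint_left.1 huv h hj
    let I : Ideal (MvPolynomial σ A) := Ideal.span (X '' u)
    refine ⟨fun a b hab => ?_, ?_⟩
    · rw [← sub_eq_zero]
      replace hab : (X j : MvPolynomial σ A) • (a - b) = 0 := by rw [smul_sub]; exact sub_eq_zero.2 hab
      obtain ⟨p, hp⟩ := Submodule.Quotient.mk_surjective _ (a - b)
      rw [← hp, ← Submodule.Quotient.mk_smul, Submodule.Quotient.mk_eq_zero, smul_eq_mul, hmem] at hab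
      rw [← hp, Submodule.Quotient.mk_eq_zero, hmem]
      intro m hm
      obtain ⟨i, hi, hi'⟩ := hab (Finsupp.single j 1 + m) (by
        rw [mem_support_iff, coeff_X_mul]
        exact mem_support_iff.1 hm)
      refine ⟨i, hi, ?_⟩
      rwa [Finsupp.add_apply, Finsupp.single_apply, if_neg (fun e : j = i => hju (by rw [e]; exact hi)), zero_add] at hi'
    · let q := LinearMap.range (DistribSMul.toLinearMap (MvPolynomial σ A)
        (MvPolynomial σ A ⧸ I) (X j : MvPolynomial σ A))
      let φ : MvPolynomial σ A →ₗ[MvPolynomial σ A] ((MvPolynomial σ A ⧸ I) ⧸ q) :=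
        q.mkQ.comp (Submodule.mkQ I)
      have hφk : LinearMap.ker φ = (Ideal.span (X '' insert j u) : Ideal (MvPolynomial σ A)) := by
        have hq : q = Submodule.map (Submodule.mkQ I) (Ideal.span {(X j : MvPolynomial σ A)}) := by
          refine le_antisymm ?_ ?_
          · rintro _ ⟨y, rfl⟩
            obtain ⟨y, rfl⟩ := Submodule.Quotient.mk_surjective _ y
            exact ⟨X j * y, Ideal.mul_mem_right _ _ (Ideal.subset_span rfl), rfl⟩
          · rw [Submodule.map_le_iff_le_comap, Ideal.span, Submodule.span_le]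
            rintro _ rfl
            refine ⟨Submodule.Quotient.mk 1, ?_⟩
            show (X j : MvPolynomial σ A) • (Submodule.Quotient.mk 1 : MvPolynomial σ A ⧸ I) = _
            rw [← Submodule.Quotient.mk_smul, smul_eq_mul, mul_one]
            rfl
        rw [LinearMap.ker_comp, Submodule.ker_mkQ, hq, Submodule.comap_map_mkQ, Set.image_insert_eq,
          Ideal.span_insert, sup_comm]
      refine GoodMod.of_equiv ((Submodule.quotEquivOfEq _ _ hφk.symm).trans
        (φ.quotKerEquivOfSurjective ((Submodule.mkQ_surjective q).comp (Submodule.mkQ_surjective I)))) ?_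
      refine GoodMod.mono (s := X '' (v \ {j})) ?_ ?_
      · rintro _ ⟨⟨i, hi, rfl⟩, hne⟩
        exact ⟨i, ⟨hi, fun e => hne (by rw [Set.mem_singleton_iff.1 e]; rfl)⟩, rfl⟩
      exact ih (insert j u) (v \ {j}) (Set.disjoint_left.2 fun a ha hav => by
        rcases Set.mem_insert_iff.1 ha with rfl | ha
        · exact hav.2 rfl
        · exact Set.disjoint_left.1 huv ha hav.1)

end Groth.Agent.H1KoszFree
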