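import Groth.Agent.KoszulLim.Bridge
import Groth.Agent.H1KoszFree.Module

/-!
# The colimit Koszul complex of the variables of a polynomial ring
-/

set_option linter.style.haveILetI false
set_option backward.isDefEq.respectTransparency false
set_option backward.isDefEq.respectTransparency.types false

universe u

open CategoryTheory CategoryTheory.Limits CochainComplex CategoryTheory.Pretriangulated

attribute [local instance] HasDerivedCategory.standard

namespace Groth.Agent.H1KoszFree

open Groth.Agent.H9Misc.ExtCechTors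

variable {R : Type u} [CommRing R]

local notation3 "Hm" => HomologicalComplex.homologyMap

/-- Homology of a localised complex is localised homology. -/
lemma isLocalizedModule_homologyMap (f : R) (K : DRing.Cx R) (q : ℤ) :
    IsLocalizedModule (Submonoid.powers f)
      (HomologicalComplex.homologyMap (DerCA.locCxUnit (Submonoid.powers f) K) q).hom := by
  let L := (DerCA.locCx (Submonoid.powers f)).obj K
  have hb : ∀ x : Submonoid.powers f, Function.Bijective (fun y : L.homology q => (x : R) • y) := by
    rintro ⟨_, k, rfl⟩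
    haveI := KoszulLim.isIso_pow_smul f k K
    have h : IsIso (HomologicalComplex.homologyMap ((f ^ k) • 𝟙 L) q) := inferInstance
    have he : HomologicalComplex.homologyMap ((f ^ k) • 𝟙 L) q = (f ^ k) • 𝟙 (L.homology q) := by
      refine Eq.trans ?_ ((ShortComplex.homologyMap_smul ((HomologicalComplex.shortComplexFunctor
        (ModuleCat.{u} R) (ComplexShape.up ℤ) q).map (𝟙 L)) (f ^ k)).trans (congrArg _ ?_))
      · show ShortComplex.homologyMap _ = ShortComplex.homologyMap _
        congr 1
      · exact HomologicalComplex.homologyMap_id L q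
    rw [he] at h
    exact (ConcreteCategory.isIso_iff_bijective _).1 h
  obtain ⟨hk, hc⟩ := unit_kernel_cokernel f K q
  refine ⟨fun x => (Module.End.isUnit_iff _).2 (hb x), fun y => ?_, fun {x₁ x₂} h => ?_⟩
  · obtain ⟨i, a, ha⟩ := hc y
    exact ⟨⟨a, ⟨f ^ i, i, rfl⟩⟩, ha.symm⟩
  · obtain ⟨i, hi⟩ := hk (x₁ - x₂) ((map_sub _ _ _).trans (sub_eq_zero.2 h))
    rw [smul_sub, sub_eq_zero] at hi
    exact ⟨⟨f ^ i, i, rfl⟩, hi⟩

/-- If the homology of `K` is in degree `0` and `f` is regular on it, the cone of `K → K_f` has
homology in degree `0`, the tail of the one of `K`. -/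
lemma cone_homology (f : R) (K : DRing.Cx R) (hK : ∀ q ≠ 0, Subsingleton (K.homology q))
    (hf : Function.Injective (fun y : K.homology 0 => f • y)) :
    (∀ q ≠ 0, Subsingleton ((mappingCone (DerCA.locCxUnit (Submonoid.powers f) K)).homology q)) ∧
    ∃ π : ((DerCA.locCx (Submonoid.powers f)).obj K).homology 0 →ₗ[R]
        (mappingCone (DerCA.locCxUnit (Submonoid.powers f) K)).homology 0,
      IsTail f (HomologicalComplex.homologyMap (DerCA.locCxUnit (Submonoid.powers f) K) 0).hom π := by
  let φ := DerCA.locCxUnit (Submonoid.powers f) K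
  let L := (DerCA.locCx (Submonoid.powers f)).obj K
  let T := DerivedCategory.Q.mapTriangle.obj (CochainComplex.mappingCone.triangle φ)
  have hT : T ∈ distinguishedTriangles := DerivedCategory.mappingCone_triangle_distinguished φ
  let H := fun i : ℤ => DerivedCategory.homologyFunctor (ModuleCat.{u} R) i
  let e : ∀ (X : DRing.Cx R) (i : ℤ), (H i).obj (DerivedCategory.Q.obj X) ≅ X.homology i :=
    fun X i => (DerivedCategory.homologyFunctorFactors (ModuleCat.{u} R) i).app X
  have nat : ∀ i, (H i).map (DerivedCategory.Q.map φ) ≫ (e L i).hom =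
      (e K i).hom ≫ HomologicalComplex.homologyMap φ i := fun i =>
    (DerivedCategory.homologyFunctorFactors (ModuleCat.{u} R) i).hom.naturality φ
  have hL : ∀ q ≠ 0, Subsingleton (L.homology q) := fun q hq => ⟨fun a b => by
    haveI := hK q hq
    haveI := isLocalizedModule_homologyMap f K q
    obtain ⟨⟨m, s⟩, hm⟩ := IsLocalizedModule.surj (Submonoid.powers f) (Hm φ q).hom (a - b)
    rw [Subsingleton.elim m 0, map_zero] at hm
    refine sub_eq_zero.1 (((Module.End.isUnit_iff _).1
      (IsLocalizedModule.map_units (Hm φ q).hom s)).1 (hm.trans ?_))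
    exact (map_zero _).symm⟩
  have sub : ∀ (X : DRing.Cx R) (q : ℤ), Subsingleton (X.homology q) →
      Subsingleton ((H q).obj (DerivedCategory.Q.obj X)) := fun X q h =>
    (e X q).toLinearEquiv.toEquiv.subsingleton
  have hφ0 : Function.Injective (Hm φ 0) := by
    haveI := isLocalizedModule_homologyMap f K 0
    intro x y hxy
    obtain ⟨⟨_, k, rfl⟩, hc⟩ :=
      (IsLocalizedModule.eq_iff_exists (Submonoid.powers f) (Hm φ 0).hom).1 hxy
    change f ^ k • x = f ^ k • y at hc
    induction k with
    | zero => simpa using hc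
    | succ k ih =>
      rw [pow_succ', mul_smul, mul_smul] at hc
      exact ih (hf hc)
  have hnat : ∀ x, (e L 0).hom ((H 0).map (DerivedCategory.Q.map φ) x) = Hm φ 0 ((e K 0).hom x) :=
    fun x => ConcreteCategory.congr_hom (nat 0) x
  constructor
  · intro q hq
    have hex := DerivedCategory.HomologySequence.exact₃ T hT q (q + 1) rfl
    rw [ShortComplex.moduleCat_exact_iff] at hex
    have hLq : Subsingleton ((H q).obj (DerivedCategory.Q.obj L)) := sub L q (hL q hq)
    refine ⟨fun a b => (e _ q).toLinearEquiv.symm.injective (sub_eq_zero.1 ?_)⟩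
    let x := (e _ q).toLinearEquiv.symm a - (e _ q).toLinearEquiv.symm b
    show x = 0
    obtain ⟨y, hy⟩ : ∃ y, (H q).map T.mor₂ y = x := by
      refine hex x ?_
      by_cases h1 : q + 1 = 0
      · have hδ : (H (q + 1)).map (DerivedCategory.Q.map φ)
            (DerivedCategory.HomologySequence.δ T q (q + 1) rfl x) = 0 :=
          (ConcreteCategory.comp_apply _ _ _).symm.trans
            ((ConcreteCategory.congr_hom
              (DerivedCategory.HomologySequence.δ_comp T hT q (q + 1) rfl) x).trans rfl)
        have hinj : Function.Injective ((H (q + 1)).map (DerivedCategory.Q.map φ)) := by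
          rw [h1]
          intro u v huv
          refine (e K 0).toLinearEquiv.injective (hφ0 ?_)
          exact ((hnat u).symm.trans (congrArg (e L 0).hom huv)).trans (hnat v)
        exact hinj (hδ.trans (map_zero _).symm)
      · haveI := sub K (q + 1) (hK _ h1)
        exact @Subsingleton.elim _ (sub K (q + 1) (hK _ h1)) _ _
    exact hy.symm.trans ((congrArg _ (@Subsingleton.elim _ hLq y 0)).trans (map_zero _))
  · have hex2 := DerivedCategory.HomologySequence.exact₂ T hT 0
    have hex3 := DerivedCategory.HomologySequence.exact₃ T hT 0 (0 + 1) rfl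
    rw [ShortComplex.moduleCat_exact_iff] at hex2 hex3
    let π := ((e L 0).inv ≫ (H 0).map T.mor₂ ≫ (e (mappingCone φ) 0).hom).hom
    refine ⟨π, isLocalizedModule_homologyMap f K 0, hf, fun y => ?_, fun y => ⟨fun hy => ?_, ?_⟩⟩
    · obtain ⟨z, hz⟩ := hex3 ((e (mappingCone φ) 0).inv y)
        (@Subsingleton.elim _ (sub K (0 + 1) (hK _ (by decide))) _ _)
      refine ⟨(e L 0).hom z, ?_⟩
      show (e _ 0).hom ((H 0).map T.mor₂ ((e L 0).inv ((e L 0).hom z))) = y
      rw [Iso.hom_inv_id_apply]
      exact (congrArg _ hz).trans (Iso.inv_hom_id_apply _ y)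
    · obtain ⟨x, hx⟩ := hex2 ((e L 0).inv y)
        ((e (mappingCone φ) 0).toLinearEquiv.injective (hy.trans (map_zero _).symm))
      refine ⟨(e K 0).hom x, ?_⟩
      exact ((hnat x).symm.trans (congrArg _ hx)).trans (Iso.inv_hom_id_apply _ y)
    · rintro ⟨x, rfl⟩
      have : (e L 0).inv (Hm φ 0 x) = (H 0).map (DerivedCategory.Q.map φ) ((e K 0).inv x) := by
        refine (e L 0).toLinearEquiv.injective ?_
        show (e L 0).hom _ = (e L 0).hom _
        rw [Iso.inv_hom_id_apply]
        exact ((hnat _).trans (congrArg _ (Iso.inv_hom_id_apply _ x))).symm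
      show (e _ 0).hom ((H 0).map T.mor₂ ((e L 0).inv (Hm φ 0 x))) = 0
      rw [this]
      have h12 : (H 0).map T.mor₁ ≫ (H 0).map T.mor₂ = 0 := by
        rw [← Functor.map_comp, comp_distTriang_mor_zero₁₂ T hT, Functor.map_zero]
      exact (congrArg _ (((ConcreteCategory.comp_apply _ _ _).symm.trans
        (ConcreteCategory.congr_hom h12 _)).trans rfl)).trans (map_zero _)

variable (A : Type u) [CommRing A] {σ : Type} [DecidableEq σ]

/-- Homology over a polynomial ring as a module over the coefficients. -/
noncomputable scoped instance modA (K : DRing.Cx (MvPolynomial σ A)) (q : ℤ) :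
    Module A (K.homology q) := Module.compHom _ (algebraMap A (MvPolynomial σ A))

scoped instance towerA (K : DRing.Cx (MvPolynomial σ A)) (q : ℤ) :
    IsScalarTower A (MvPolynomial σ A) (K.homology q) :=
  IsScalarTower.of_algebraMap_smul fun _ _ => rfl

theorem goodMod_variables : ∀ (js : List σ), js.Nodup → ∀ n : ℕ,
    (∀ q ≠ 0, Subsingleton ((KoszulLim.D (ModuleCat.of (MvPolynomial σ A) (MvPolynomial σ A))
      (js.map MvPolynomial.X)).homology q)) ∧
    GoodMod A n ((KoszulLim.D (ModuleCat.of (MvPolynomial σ A) (MvPolynomial σ A))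
      (js.map MvPolynomial.X)).homology 0) (MvPolynomial.X '' {j | j ∉ js} : Set (MvPolynomial σ A))
  | [], _, n => by
    let S := MvPolynomial σ A
    constructor
    · intro q hq
      exact ModuleCat.subsingleton_of_isZero
        ((HomologicalComplex.isZero_single_obj_homology _ 0 (ModuleCat.of S S) q hq))
    · have h := goodMod_quot (A := A) n (∅ : Set σ) Set.univ (Set.empty_disjoint _)
      have h' := GoodMod.of_equiv (Submodule.quotEquivOfEqBot _
        (by rw [Set.image_empty]; exact Ideal.span_empty)) h
      refine GoodMod.mono ?_ (GoodMod.of_equiv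
        (HomologicalComplex.singleObjHomologySelfIso (ComplexShape.up ℤ) 0 (ModuleCat.of S S)).toLinearEquiv.symm h')
      exact Set.image_mono (Set.subset_univ _)
  | j :: js, hnd, n => by
    obtain ⟨hj, hnd'⟩ := List.nodup_cons.1 hnd
    obtain ⟨hv, hg⟩ := goodMod_variables js hnd' (n + 1)
    have hmem : (MvPolynomial.X j : MvPolynomial σ A) ∈ MvPolynomial.X '' {i | i ∉ js} := ⟨j, hj, rfl⟩
    obtain ⟨h1, π, hπ⟩ := cone_homology (MvPolynomial.X j) _ hv (hg.2 _ hmem).1
    refine ⟨h1, ?_⟩
    rcases subsingleton_or_nontrivial A with hA | hA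
    · exact GoodMod.of_subsingleton
    refine GoodMod.tail hπ ?_ (GoodMod.mono ?_ hg)
    · rintro ⟨i, hi, he⟩
      exact hi (by rw [MvPolynomial.X_injective he]; exact List.mem_cons_self)
    · rw [Set.insert_subset_iff]
      exact ⟨hmem, Set.image_mono fun i hi h => hi (List.mem_cons_of_mem _ h)⟩

end Groth.Agent.H1KoszFree
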